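import Groth.Agent.KoszBlow.Scheme
import Groth.Agent.BlowUpLib.Basic
import Mathlib

/-!
# The exceptional divisor of a blow-up in a regular centre is smooth over the centre
-/

set_option autoImplicit false
set_option linter.style.haveILetI false
set_option maxSynthPendingDepth 4
set_option backward.isDefEq.respectTransparency false
universe u

open CategoryTheory AlgebraicGeometry Limits TopologicalSpace MvPolynomial

namespace Groth.Agent.BlowExc

open BlowUpExist KoszBlow
open Wiebe (Acyclic)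

section Algebra

variable {A : Type u} [CommRing A] {I : Ideal A} {n : ℕ} (a : Fin (n + 1) → A) (hI : I = Ideal.span (Set.range a))

local notation "𝒜" => Rees.deg (reesAlgebra I)

theorem le_comap_fromA (b : A) (hb : b ∈ I) : I ≤ (Ideal.span {fromA I b hb b}).comap (fromA I b hb) := fun x hx =>
  (map_fromA_eq I b hb).le (Ideal.mem_map_of_mem _ hx)

include hI in
/-- The chart of the first generator, modulo it, is a polynomial ring over `A ⧸ I`. -/
theorem smooth_quotientMap (ha : Acyclic a) :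
    (Ideal.quotientMap (Ideal.span {fromA I (a 0) (mem_ideal a hI 0) (a 0)}) (fromA I (a 0) (mem_ideal a hI 0))
      (le_comap_fromA (a 0) (mem_ideal a hI 0))).Smooth := by
  set K := Ideal.span {fromA I (a 0) (mem_ideal a hI 0) (a 0)}
  set ψ := Ideal.quotientMap K (fromA I (a 0) (mem_ideal a hI 0)) (le_comap_fromA (a 0) (mem_ideal a hI 0))
  let θ : MvPolynomial (Fin n) (A ⧸ I) →+* _ ⧸ K := eval₂Hom ψ fun i => Ideal.Quotient.mk K (pres a hI (X i))
  have hθ : θ.comp (MvPolynomial.map (Ideal.Quotient.mk I)) = (Ideal.Quotient.mk K).comp (pres a hI) := by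
    refine MvPolynomial.ringHom_ext (fun r => ?_) (fun i => ?_)
    · simp [θ, ψ, pres_C]
    · simp [θ]
  have hsurj : Function.Surjective θ := fun z => by
    obtain ⟨z, rfl⟩ := Ideal.Quotient.mk_surjective z
    obtain ⟨p, rfl⟩ := pres_surjective a hI z
    exact ⟨_, RingHom.congr_fun hθ p⟩
  have hinj : Function.Injective θ := by
    rw [injective_iff_map_eq_zero]
    intro q hq
    obtain ⟨p, rfl⟩ := MvPolynomial.map_surjective _ Ideal.Quotient.mk_surjective q
    have h1 : Ideal.Quotient.mk K (pres a hI p) = 0 := (RingHom.congr_fun hθ p).symm.trans hq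
    obtain ⟨c, hc⟩ := Ideal.mem_span_singleton.1 (Ideal.Quotient.eq_zero_iff_mem.1 h1)
    obtain ⟨c, rfl⟩ := pres_surjective a hI c
    have h2 : p - C (a 0) * c ∈ RingHom.ker (pres a hI) := by
      rw [RingHom.mem_ker, map_sub, map_mul, pres_C, hc, sub_self]
    have h0 : ∀ j, Ideal.Quotient.mk I (a j) = 0 := fun j => Ideal.Quotient.eq_zero_iff_mem.2 (mem_ideal a hI j)
    have h3 : RingHom.ker (pres a hI) ≤ RingHom.ker (MvPolynomial.map (σ := Fin n) (Ideal.Quotient.mk I)) := by
      rw [ker_pres a hI ha, Ideal.span_le]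
      rintro _ ⟨i, rfl⟩
      simp [eqn, h0]
    have h4 := RingHom.mem_ker.1 (h3 h2)
    rw [map_sub, map_mul, map_C, h0, map_zero, zero_mul, sub_zero] at h4
    exact h4
  rw [show ψ = θ.comp C from RingHom.ext fun r => (eval₂Hom_C ψ _ r).symm]
  refine RingHom.Smooth.comp ?_ (RingHom.Smooth.of_bijective ⟨hinj, hsurj⟩)
  rw [← MvPolynomial.algebraMap_eq, RingHom.smooth_algebraMap]
  exact ⟨inferInstance, inferInstance⟩

include hI in
theorem smooth_quotientMap' (ha : Acyclic a) (j : Fin (n + 1)) :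
    (Ideal.quotientMap (Ideal.span {fromA I (a j) (mem_ideal a hI j) (a j)}) (fromA I (a j) (mem_ideal a hI j))
      (le_comap_fromA (a j) (mem_ideal a hI j))).Smooth := by
  have key : ∀ (b : A) (hb : b ∈ I), b = (a ∘ Equiv.swap 0 j) 0 →
      (Ideal.quotientMap (Ideal.span {fromA I b hb b}) (fromA I b hb) (le_comap_fromA b hb)).Smooth := by
    rintro b hb rfl
    exact smooth_quotientMap (a ∘ Equiv.swap 0 j)
      (by rw [hI, Set.range_comp, Set.range_eq_univ.2 (Equiv.swap 0 j).surjective, Set.image_univ])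
      (KoszulLib.acyclic_comp_equiv _ ha)
  exact key _ _ (by simp)

end Algebra

theorem sheafOf_ideal {R : Type u} [CommRing R] (J : Ideal R) :
    (sheafOf J).ideal ⟨⊤, isAffineOpen_top _⟩ = J.map (Scheme.ΓSpecIso (CommRingCat.of R)).inv.hom :=
  (Scheme.IdealSheafData.equivOfIsAffine (X := Spec (CommRingCat.of R))).apply_symm_apply _

theorem ker_specMap_mk {R : Type u} [CommRing R] (J : Ideal R) :
    (Spec.map (CommRingCat.ofHom (Ideal.Quotient.mk J))).ker = sheafOf J := by
  refine Scheme.IdealSheafData.ext_of_isAffine ?_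
  rw [Scheme.Hom.ker_apply, sheafOf_ideal]
  ext a
  let e := (Scheme.ΓSpecIso (CommRingCat.of R)).commRingCatIsoToRingEquiv
  let e' := (Scheme.ΓSpecIso (CommRingCat.of (R ⧸ J))).commRingCatIsoToRingEquiv
  have hn : ∀ x, e' ((Spec.map (CommRingCat.ofHom (Ideal.Quotient.mk J))).appTop.hom x) = Ideal.Quotient.mk J (e x) :=
    fun x => congr($(Scheme.ΓSpecIso_naturality (CommRingCat.ofHom (Ideal.Quotient.mk J))).hom x)
  have h2 : a ∈ J.map (Scheme.ΓSpecIso (CommRingCat.of R)).inv.hom ↔ e a ∈ J := by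
    refine (Ideal.mem_map_of_equiv e.symm a).trans ⟨?_, fun h => ⟨_, h, e.symm_apply_apply a⟩⟩
    rintro ⟨x, hx, rfl⟩
    rwa [e.apply_symm_apply]
  rw [h2, RingHom.mem_ker, ← Ideal.Quotient.eq_zero_iff_mem, ← hn, map_eq_zero_iff _ e'.injective]
  rfl

/-- The part of a closed subscheme inside an affine open chart. -/
theorem exists_piece {Z X : Scheme.{u}} (i : Z ⟶ X) [IsClosedImmersion i] {R : Type u} [CommRing R]
    (w : Spec (CommRingCat.of R) ⟶ X) [IsOpenImmersion w] (J : Ideal R) (h : i.ker.comap w = sheafOf J) :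
    ∃ j : Spec (CommRingCat.of (R ⧸ J)) ⟶ Z, IsOpenImmersion j ∧
      j ≫ i = Spec.map (CommRingCat.ofHom (Ideal.Quotient.mk J)) ≫ w ∧
      ∀ z : Z, i z ∈ Set.range w → z ∈ Set.range j := by
  let s := Spec.map (CommRingCat.ofHom (Ideal.Quotient.mk J))
  haveI : IsClosedImmersion s := IsClosedImmersion.spec_of_surjective _ Ideal.Quotient.mk_surjective
  have hle : i.ker ≤ (s ≫ w).ker := by
    rw [← Scheme.IdealSheafData.map_ker, Scheme.IdealSheafData.le_map_iff_comap_le, h, ker_specMap_mk]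
  let j := IsClosedImmersion.lift i (s ≫ w) hle
  have hj : j ≫ i = s ≫ w := IsClosedImmersion.lift_fac _ _ _
  have sq : IsPullback s j w i := isPullback_of_isClosedImmersion s i j w hj.symm (by rw [h, ker_specMap_mk])
  refine ⟨j, MorphismProperty.of_isPullback sq inferInstance, hj, fun z ⟨p, hp⟩ => ?_⟩
  have hps : p ∈ (s.ker.support : Set (Spec (CommRingCat.of R))) := by
    rw [ker_specMap_mk, ← h, Scheme.IdealSheafData.support_comap]
    show w p ∈ (i.ker.support : Set X)
    rw [hp]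
    exact i.range_subset_ker_support ⟨z, rfl⟩
  rw [Scheme.Hom.support_ker, (s.isClosedEmbedding.isClosed_range).closure_eq] at hps
  obtain ⟨q, hq⟩ := hps
  refine ⟨q, i.isClosedEmbedding.injective ?_⟩
  rw [← Scheme.Hom.comp_apply, hj, Scheme.Hom.comp_apply, hq, hp]

theorem smooth_exceptional {X X' Y : Scheme.{u}} (i : Y ⟶ X) (hi : Mor2.IsRegularClosedImmersion i)
    (b : X' ⟶ X) (hb : BlowUp.IsBlowUp b i.ker) {E : Scheme.{u}} (ι : E ⟶ X') [IsClosedImmersion ι]
    (hι : ι.ker = BlowUp.exceptional b i.ker) (g : E ⟶ Y) (hg : g ≫ i = ι ≫ b) : Smooth g := by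
  haveI := hi.1
  suffices key : ∀ e : E, ∃ (W : Scheme.{u}) (j : W ⟶ E), IsOpenImmersion j ∧ e ∈ Set.range j ∧ Smooth (j ≫ g) by
    choose W j hj hmem hsm using key
    let 𝒰 : E.OpenCover := E.openCoverOfIsOpenCover (fun e => (haveI := hj e; (j e).opensRange))
      (eq_top_iff.2 fun e _ => Opens.mem_iSup.2 ⟨e, hmem e⟩)
    refine (IsZariskiLocalAtSource.iff_of_openCover (P := @Smooth) 𝒰).2 fun (e : E) => ?_
    haveI := hj e
    show Smooth ((j e).opensRange.ι ≫ g)
    rw [← Scheme.Hom.isoOpensRange_inv_comp (j e), Category.assoc]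
    haveI := hsm e
    infer_instance
  intro e
  obtain ⟨U, m, a, hxU, hacyc, hU⟩ := exists_acyclic_of_regularImmersion hi (b (ι e))
  let A := Γ(X, U.1)
  let u : Spec A ⟶ X := U.2.fromSpec
  let I : Ideal A := Ideal.span (Set.range a)
  have hsheaf : i.ker.comap u = sheafOf I := by
    refine Scheme.IdealSheafData.ext_of_isAffine ?_
    rw [sheafOf_ideal, ideal_comap_fromSpec, hU]
    rfl
  have hbu := BlowUpLib.isBlowUp_flat u hb
  rw [hsheaf] at hbu
  have h0 := isBlowUp_affine I
  obtain ⟨k, hk, -⟩ := h0.2 _ (pullback.fst u b) hbu.1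
  obtain ⟨l, hl, -⟩ := hbu.2 _ (structMap I) h0.1
  haveI : IsIso l := ⟨k, (h0.2 _ _ h0.1).unique (by rw [Category.assoc, hk, hl]) (Category.id_comp _),
    (hbu.2 _ _ hbu.1).unique (by rw [Category.assoc, hl, hk]) (Category.id_comp _)⟩
  obtain ⟨p, hp⟩ : ι e ∈ Set.range (pullback.snd u b) := by
    rw [Scheme.Pullback.range_snd]
    show b (ι e) ∈ Set.range u
    rw [IsAffineOpen.range_fromSpec]
    exact hxU
  obtain ⟨p', hp'⟩ := l.surjective p
  let 𝒰 := (Proj.affineOpenCoverOfIrrelevantLESpan (Rees.deg (reesAlgebra I))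
    (fun j : Fin m => tt I (a j) (Ideal.subset_span ⟨j, rfl⟩)) (m := fun _ => 1)
    (fun j => tt_mem I _ _) (fun _ => one_pos) (irrelevant_le_gens a rfl)).openCover
  obtain ⟨j, q, hq⟩ : ∃ (j : Fin m) (q : _), chart I (a j) (Ideal.subset_span ⟨j, rfl⟩) q = p' :=
    ⟨𝒰.idx p', 𝒰.covers p'⟩
  obtain ⟨n, rfl⟩ : ∃ n, m = n + 1 := ⟨m - 1, by have := j.2; omega⟩
  have haj : a j ∈ I := mem_ideal a rfl j
  let K := Ideal.span {fromA I (a j) haj (a j)}
  let w := chart I (a j) haj ≫ l ≫ pullback.snd u b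
  have hwb : w ≫ b = Spec.map (CommRingCat.ofHom (fromA I (a j) haj)) ≫ u := by
    simp only [w, Category.assoc, ← pullback.condition]
    rw [reassoc_of% hl, ← Category.assoc, chart_structMap]
  have hK : ι.ker.comap w = sheafOf K := by
    rw [hι, BlowUp.exceptional, ← Scheme.IdealSheafData.comap_comp, hwb,
      Scheme.IdealSheafData.comap_comp, hsheaf]
    refine Scheme.IdealSheafData.ext_of_isAffine ?_
    rw [ideal_comap_specMap, map_fromA_eq, sheafOf_ideal]
  obtain ⟨je, hjeo, hje, hjecov⟩ := exists_piece ι w K hK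
  obtain ⟨jY, hjYo, hjY, -⟩ := exists_piece i u I hsheaf
  refine ⟨_, je, hjeo, hjecov e ⟨q, ?_⟩, ?_⟩
  · show (chart I (a j) haj ≫ l ≫ pullback.snd u b) q = ι e
    rw [Scheme.Hom.comp_apply, Scheme.Hom.comp_apply, hq, hp', hp]
  let ψ := Ideal.quotientMap K (fromA I (a j) haj) (le_comap_fromA (a j) haj)
  have heq : je ≫ g = Spec.map (CommRingCat.ofHom ψ) ≫ jY := by
    rw [← cancel_mono i, Category.assoc, hg, Category.assoc, hjY, ← Category.assoc, hje, Category.assoc, hwb,
      ← Category.assoc, ← Category.assoc, ← Spec.map_comp, ← Spec.map_comp]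
    congr 2
  rw [heq]
  haveI := hjYo
  haveI : Smooth (Spec.map (CommRingCat.ofHom ψ)) :=
    (HasRingHomProperty.Spec_iff (P := @Smooth)).2 (smooth_quotientMap' a rfl hacyc j)
  infer_instance

end Groth.Agent.BlowExc
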