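import Groth.Agent.BlowExc.Smooth
import Groth.Agent.BlowUpExist.Algebra
import Mathlib

/-!
# Flatness of the exceptional divisor from flatness of the thickenings of the centre
-/

set_option autoImplicit false
set_option linter.style.haveILetI false
universe u

open CategoryTheory AlgebraicGeometry Limits TopologicalSpace
open scoped TensorProduct

namespace Groth.Agent.BlowExc

section Algebra

variable {R A C : Type u} [CommRing R] [CommRing A] [CommRing C]
  [Algebra R A] [Algebra R C] [Algebra A C] [IsScalarTower R A C] (I : Ideal A) (a : A)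

/-- `I ^ n / I ^ (n + 1)` -/
abbrev Gr (n : ℕ) : Type u := ↥(I ^ n) ⧸ (Submodule.comap (Submodule.subtype (I ^ n)) (I ^ (n + 1)))

variable (R) in
theorem flat_gr (hflat : ∀ n, Module.Flat R (A ⧸ I ^ (n + 1))) (n : ℕ) : Module.Flat R (Gr I n) := by
  have hflat' : ∀ m, Module.Flat R (A ⧸ I ^ m) := fun m => by
    cases m with
    | zero =>
      haveI : Subsingleton (A ⧸ I ^ 0) := Ideal.Quotient.subsingleton_iff.2 (by simp)
      infer_instance
    | succ m => exact hflat m
  haveI := hflat' n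
  haveI := hflat' (n + 1)
  let i : Gr I n →ₗ[A] A ⧸ I ^ (n + 1) :=
    Submodule.mapQ _ _ (I ^ n).subtype le_rfl
  have hi : Function.Injective i := by
    rw [injective_iff_map_eq_zero]
    intro x hx
    obtain ⟨x, rfl⟩ := Submodule.mkQ_surjective _ x
    exact (Submodule.Quotient.mk_eq_zero _).2 ((Submodule.Quotient.mk_eq_zero (I ^ (n + 1))).1 hx)
  have hle : I ^ (n + 1) ≤ I ^ n := Ideal.pow_le_pow_right n.le_succ
  let q : (A ⧸ I ^ (n + 1)) →ₗ[A] A ⧸ I ^ n := Submodule.mapQ _ _ LinearMap.id hle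
  have hq : Function.Surjective q := fun x => by
    obtain ⟨x, rfl⟩ := Submodule.mkQ_surjective _ x
    exact ⟨Submodule.Quotient.mk x, rfl⟩
  have hex : Function.Exact (i.restrictScalars R) (q.restrictScalars R) := fun x => by
    obtain ⟨x, rfl⟩ := Submodule.mkQ_surjective _ x
    refine ⟨fun h => ⟨Submodule.Quotient.mk ⟨x, (Submodule.Quotient.mk_eq_zero (I ^ n)).1 h⟩, rfl⟩, ?_⟩
    rintro ⟨y, hy⟩
    obtain ⟨y, rfl⟩ := Submodule.mkQ_surjective _ y
    rw [← hy]
    exact (Submodule.Quotient.mk_eq_zero (I ^ n)).2 y.2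
  refine Module.Flat.iff_lTensor_injective'.2 fun J => ?_
  rw [injective_iff_map_eq_zero]
  intro t ht
  apply (LinearMap.lTensor_inj_iff_rTensor_inj (M := ↥J) (f := i.restrictScalars R)).1
    (LinearMap.lTensor_injective_of_exact_of_flat (q.restrictScalars R) hq _ hi hex _)
  rw [map_zero]
  apply Module.Flat.iff_lTensor_injective'.1 (hflat' (n + 1)) J
  rw [map_zero, ← LinearMap.comp_apply, LinearMap.lTensor_comp_rTensor, ← LinearMap.rTensor_comp_lTensor,
    LinearMap.comp_apply, ht, map_zero]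

variable {I a}

/-- Flatness of `C / g` when `C` is built from the powers of `I` by dividing by `a`. -/
theorem flat_quot_span (ha : a ∈ I) (hg : algebraMap A C a ∈ nonZeroDivisors C)
    (hpow : ∀ (n : ℕ), ∀ c ∈ I ^ n, algebraMap A C c ∈ Ideal.span {algebraMap A C a ^ n})
    (hsurj : ∀ z : C, ∃ (n : ℕ) (c : A), c ∈ I ^ n ∧ z * algebraMap A C a ^ n = algebraMap A C c)
    (hker : ∀ c : A, algebraMap A C c = 0 → ∃ k : ℕ, a ^ k * c = 0)
    (hflat : ∀ n, Module.Flat R (A ⧸ I ^ (n + 1))) :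
    Module.Flat R (C ⧸ Ideal.span {algebraMap A C a}) := by
  classical
  set g := algebraMap A C a with hgdef
  have hχ : ∀ n (c : ↥(I ^ n)), ∃ z : C, z * g ^ n = algebraMap A C c := fun n c =>
    Ideal.mem_span_singleton'.1 (hpow n c c.2)
  choose χ hχ using hχ
  have hcancel : ∀ n (z w : C), z * g ^ n = w * g ^ n → z = w :=
    fun n z w h => (mul_cancel_right_mem_nonZeroDivisors (pow_mem hg n)).1 h
  let χl : ∀ n, ↥(I ^ n) →ₗ[A] C ⧸ Ideal.span {g} := fun n =>
    { toFun := fun c => Ideal.Quotient.mk _ (χ n c)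
      map_add' := fun x y => by
        rw [← map_add]
        congr 1
        refine hcancel n _ _ ?_
        rw [add_mul, hχ, hχ, hχ, Submodule.coe_add, map_add]
      map_smul' := fun r x => by
        rw [RingHom.id_apply, Algebra.smul_def, Ideal.Quotient.mk_algebraMap (R₁ := A) _ r |>.symm, ← map_mul]
        congr 1
        refine hcancel n _ _ ?_
        rw [mul_assoc, hχ, hχ, Submodule.coe_smul, smul_eq_mul, map_mul] }
  have hkill : ∀ n, (Submodule.comap (Submodule.subtype (I ^ n)) (I ^ (n + 1))) ≤ LinearMap.ker (χl n) := fun n c hc => by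
    obtain ⟨w, hw⟩ := Ideal.mem_span_singleton'.1 (hpow (n + 1) c hc)
    refine LinearMap.mem_ker.2 (Ideal.Quotient.eq_zero_iff_mem.2 (Ideal.mem_span_singleton'.2 ⟨w, ?_⟩))
    refine hcancel n _ _ ?_
    rw [hχ, ← hw, pow_succ']
    ring
  let φ : ∀ n, Gr I n →ₗ[A] C ⧸ Ideal.span {g} := fun n => Submodule.liftQ _ (χl n) (hkill n)
  have hmem : ∀ (n m : ℕ), n ≤ m → ∀ c ∈ I ^ n, a ^ (m - n) * c ∈ I ^ m := fun n m h c hc => by
    have := Ideal.mul_mem_mul (Ideal.pow_mem_pow ha (m - n)) hc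
    rwa [← pow_add, Nat.sub_add_cancel h] at this
  let μ : ∀ (n m : ℕ), n ≤ m → Gr I n →ₗ[A] Gr I m := fun n m h =>
    Submodule.mapQ _ _ (LinearMap.codRestrict (I ^ m) ((a ^ (m - n)) • (I ^ n).subtype) fun c => hmem n m h c c.2)
      (fun c hc => by
        show a ^ (m - n) * (c : A) ∈ I ^ (m + 1)
        have := hmem (n + 1) (m + 1) (Nat.succ_le_succ h) c hc
        rwa [Nat.succ_sub_succ] at this)
  have hφμ : ∀ n m (h : n ≤ m), (φ m).comp (μ n m h) = φ n := fun n m h => by
    refine LinearMap.ext fun x => ?_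
    obtain ⟨c, rfl⟩ := Submodule.mkQ_surjective _ x
    show Ideal.Quotient.mk _ (χ m _) = Ideal.Quotient.mk _ (χ n c)
    congr 1
    refine hcancel m _ _ ?_
    rw [hχ]
    show algebraMap A C (a ^ (m - n) * (c : A)) = _
    rw [map_mul, map_pow, ← hgdef, ← hχ n c, ← mul_assoc, mul_comm (g ^ (m - n)), mul_assoc, ← pow_add,
      Nat.sub_add_cancel h]
  have hφμR : ∀ n m (h : n ≤ m), ((φ m).restrictScalars R).comp ((μ n m h).restrictScalars R) =
      (φ n).restrictScalars R :=
    fun n m h => LinearMap.ext fun x => LinearMap.congr_fun (hφμ n m h) x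
  refine Module.Flat.iff_lTensor_injective'.2 fun J => ?_
  rw [injective_iff_map_eq_zero]
  intro t ht
  obtain ⟨n, s, rfl⟩ : ∃ (n : ℕ) (s : Gr I n ⊗[R] J), ((φ n).restrictScalars R).rTensor J s = t := by
    clear ht
    induction t using TensorProduct.induction_on with
    | zero => exact ⟨0, 0, map_zero _⟩
    | tmul x j =>
      obtain ⟨z, rfl⟩ := Ideal.Quotient.mk_surjective x
      obtain ⟨n, c, hc, hz⟩ := hsurj z
      refine ⟨n, Submodule.Quotient.mk ⟨c, hc⟩ ⊗ₜ j, ?_⟩
      rw [LinearMap.rTensor_tmul]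
      congr 1
      show Ideal.Quotient.mk _ (χ n ⟨c, hc⟩) = _
      rw [hcancel n (χ n ⟨c, hc⟩) z ((hχ n _).trans hz.symm)]
    | add x y hx hy =>
      obtain ⟨n, s, rfl⟩ := hx
      obtain ⟨m, r, rfl⟩ := hy
      refine ⟨max n m, ((μ n _ (le_max_left n m)).restrictScalars R).rTensor J s +
        ((μ m _ (le_max_right n m)).restrictScalars R).rTensor J r, ?_⟩
      rw [map_add, ← LinearMap.rTensor_comp_apply, ← LinearMap.rTensor_comp_apply]
      rw [hφμR n _ (le_max_left n m), hφμR m _ (le_max_right n m)]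
  -- the value
  let x : Gr I n := TensorProduct.rid R _ (J.subtype.lTensor (Gr I n) s)
  have nat : ∀ {M N : Type u} [AddCommGroup M] [Module R M] [AddCommGroup N] [Module R N] (f : M →ₗ[R] N) (r : M ⊗[R] J),
      TensorProduct.rid R N (J.subtype.lTensor N (f.rTensor J r)) = f (TensorProduct.rid R M (J.subtype.lTensor M r)) := by
    intro M N _ _ _ _ f r
    induction r using TensorProduct.induction_on with
    | zero => simp
    | tmul m j => simp
    | add p q hp hq => simp [hp, hq]
  have hx : φ n x = 0 := by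
    have := nat ((φ n).restrictScalars R) s
    rw [ht, map_zero] at this
    exact this.symm
  obtain ⟨c, hc⟩ := Submodule.mkQ_surjective _ x
  rw [← hc] at hx
  obtain ⟨w, hw⟩ := Ideal.mem_span_singleton'.1 (Ideal.Quotient.eq_zero_iff_mem.1 (hx : Ideal.Quotient.mk _ (χ n c) = 0))
  obtain ⟨p, d, hd, hp⟩ := hsurj w
  obtain ⟨k, hk⟩ := hker (a ^ p * (c : A) - a ^ (n + 1) * d) (by
    rw [map_sub, map_mul, map_mul, map_pow, map_pow, ← hgdef, ← hχ n c, ← hp, ← hw]
    ring)
  rw [mul_sub, sub_eq_zero, ← mul_assoc, ← pow_add, ← mul_assoc, ← pow_add] at hk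
  have hμx : μ n (n + (k + p)) (Nat.le_add_right _ _) x = 0 := by
    rw [← hc]
    refine (Submodule.Quotient.mk_eq_zero _).2 ?_
    show a ^ (n + (k + p) - n) * (c : A) ∈ I ^ (n + (k + p) + 1)
    rw [Nat.add_sub_cancel_left, hk, show n + (k + p) + 1 = (k + (n + 1)) + p by omega, pow_add _ _ p]
    exact Ideal.mul_mem_mul (Ideal.pow_mem_pow ha _) hd
  haveI := flat_gr R I hflat (n + (k + p))
  have hzero : ((μ n (n + (k + p)) (Nat.le_add_right _ _)).restrictScalars R).rTensor J s = 0 := by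
    apply Module.Flat.iff_lTensor_injective'.1 inferInstance J
    rw [map_zero]
    apply (TensorProduct.rid R _).injective
    rw [nat, map_zero]
    exact hμx
  rw [← hφμR n (n + (k + p)) (Nat.le_add_right _ _),
    LinearMap.rTensor_comp_apply, hzero, map_zero]

end Algebra

/-- The same, for a ring homomorphism. -/
theorem flat_quot_hom {R A C : Type u} [CommRing R] [CommRing A] [CommRing C] (φ : R →+* A) (ψ : A →+* C)
    {I : Ideal A} {a : A} (ha : a ∈ I) (hg : ψ a ∈ nonZeroDivisors C)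
    (hpow : ∀ (n : ℕ), ∀ c ∈ I ^ n, ψ c ∈ Ideal.span {ψ a ^ n})
    (hsurj : ∀ z : C, ∃ (n : ℕ) (c : A), c ∈ I ^ n ∧ z * ψ a ^ n = ψ c)
    (hker : ∀ c : A, ψ c = 0 → ∃ k : ℕ, a ^ k * c = 0)
    (hflat : ∀ n, ((Ideal.Quotient.mk (I ^ (n + 1))).comp φ).Flat) :
    ((Ideal.Quotient.mk (Ideal.span {ψ a})).comp (ψ.comp φ)).Flat := by
  letI := φ.toAlgebra
  letI := ψ.toAlgebra
  letI := (ψ.comp φ).toAlgebra
  haveI : IsScalarTower R A C := .of_algebraMap_eq fun _ => rfl
  exact RingHom.flat_algebraMap_iff.2 (flat_quot_span (R := R) (A := A) (C := C) ha hg hpow hsurj hker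
    fun n => RingHom.flat_algebraMap_iff.1 (hflat n))

open BlowUpExist in
/-- The chart of `a` modulo `a` is flat when the thickenings are. -/
theorem flat_chart {R A : Type u} [CommRing R] [CommRing A] (φ : R →+* A) (I : Ideal A) (a : A) (ha : a ∈ I)
    (hflat : ∀ n, ((Ideal.Quotient.mk (I ^ (n + 1))).comp φ).Flat) :
    ((Ideal.Quotient.mk (Ideal.span {fromA I a ha a})).comp ((fromA I a ha).comp φ)).Flat := by
  refine flat_quot_hom φ (fromA I a ha) ha (fromA_mem_nonZeroDivisors I a ha)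
    (fun n c hc => pow_mem_span I (fromA I a ha) (map_fromA_eq I a ha).le hc)
    (fun z => by
      obtain ⟨n, x, hx, rfl⟩ := HomogeneousLocalization.Away.mk_surjective (Rees.deg (reesAlgebra I)) (tt_mem I a ha) z
      have hx' : x ∈ Rees.deg (reesAlgebra I) n := by simpa using hx
      refine ⟨n, ev1 I x, ?_, ?_⟩
      · rw [eq_mono_of_mem I hx', ev1_mono]; exact coeff_mem I n x
      · rw [← map_pow]; exact val_mul_pow I a ha n x hx)
    (fun c hc => by
      let T := Localization.Away a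
      have hu : IsUnit (algebraMap A T a) := IsLocalization.Away.algebraMap_isUnit a
      obtain ⟨χ, hχ⟩ := exists_chartHom I a ha (algebraMap A T) hu.mem_nonZeroDivisors
        (by rw [Ideal.span_singleton_eq_top.2 hu,
          Ideal.eq_top_of_isUnit_mem _ (Ideal.mem_map_of_mem _ ha) hu])
      have h0 : algebraMap A T c = 0 := by
        rw [← hχ, RingHom.comp_apply, show fromA I a ha c = 0 from hc, map_zero]
      obtain ⟨⟨_, k, rfl⟩, hk⟩ := (IsLocalization.map_eq_zero_iff (Submonoid.powers a) T c).1 h0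
      exact ⟨k, hk⟩)
    hflat

end Groth.Agent.BlowExc
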