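import Groth.Agent.BlowExc.Flat

/-!
# The exceptional divisor is flat over the base when the thickenings of the centre are
-/

set_option autoImplicit false
set_option linter.style.haveILetI false
set_option maxSynthPendingDepth 4
set_option backward.isDefEq.respectTransparency false
universe u

open CategoryTheory AlgebraicGeometry Limits TopologicalSpace

namespace Groth.Agent.BlowExc

open BlowUpExist

theorem spec_comp {A B C : Type u} [CommRing A] [CommRing B] [CommRing C] (f : A →+* B) (g : B →+* C) :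
    Spec.map (CommRingCat.ofHom g) ≫ Spec.map (CommRingCat.ofHom f) = Spec.map (CommRingCat.ofHom (g.comp f)) := by
  rw [← Spec.map_comp]; rfl

/-- Every point of the exceptional divisor lies in a chart. -/
theorem exists_exceptional_chart {X X' : Scheme.{u}} (𝓘 : X.IdealSheafData) (b : X' ⟶ X)
    (hb : BlowUp.IsBlowUp b 𝓘) {E : Scheme.{u}} (ι : E ⟶ X') [IsClosedImmersion ι]
    (hι : ι.ker = 𝓘.comap b) (e : E) (U : X.affineOpens) (hxU : b (ι e) ∈ U.1) :
    ∃ (a : Γ(X, U.1)) (ha : a ∈ 𝓘.ideal U)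
      (j : Spec (CommRingCat.of (HomogeneousLocalization.Away (Rees.deg (reesAlgebra (𝓘.ideal U))) (tt (𝓘.ideal U) a ha) ⧸
        Ideal.span {fromA (𝓘.ideal U) a ha a})) ⟶ E),
      IsOpenImmersion j ∧ e ∈ Set.range j ∧
        j ≫ ι ≫ b = Spec.map (CommRingCat.ofHom
          ((Ideal.Quotient.mk (Ideal.span {fromA (𝓘.ideal U) a ha a})).comp (fromA (𝓘.ideal U) a ha))) ≫ U.2.fromSpec := by
  let A := Γ(X, U.1)
  let u : Spec A ⟶ X := U.2.fromSpec
  let I : Ideal A := 𝓘.ideal U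
  have hsheaf : 𝓘.comap u = sheafOf I := by
    refine Scheme.IdealSheafData.ext_of_isAffine ?_
    rw [sheafOf_ideal, ideal_comap_fromSpec]
    rfl
  have hbu := BlowUpLib.isBlowUp_flat u hb
  rw [hsheaf] at hbu
  have h0 := isBlowUp_affine I
  obtain ⟨k, hk, -⟩ := h0.2 _ (pullback.fst u b) hbu.1
  obtain ⟨l, hl, -⟩ := hbu.2 _ (structMap I) h0.1
  haveI : IsIso l := ⟨k, (h0.2 _ _ h0.1).unique (by rw [Category.assoc, hk, hl]) (Category.id_comp _),
    (hbu.2 _ _ hbu.1).unique (by rw [Category.assoc, hl, hk]) (Category.id_comp _)⟩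
  obtain ⟨p, hp⟩ : ι e ∈ Set.range (pullback.snd u b) := by
    rw [Scheme.Pullback.range_snd]
    show b (ι e) ∈ Set.range u
    rw [IsAffineOpen.range_fromSpec]
    exact hxU
  obtain ⟨p', hp'⟩ := l.surjective p
  obtain ⟨a, ha, q, hq⟩ := BlowUpExist.exists_chart I p'
  let K := Ideal.span {fromA I a ha a}
  let w := chart I a ha ≫ l ≫ pullback.snd u b
  have hwb : w ≫ b = Spec.map (CommRingCat.ofHom (fromA I a ha)) ≫ u := by
    simp only [w, Category.assoc, ← pullback.condition]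
    rw [reassoc_of% hl, ← Category.assoc, chart_structMap]
  have hK : ι.ker.comap w = sheafOf K := by
    rw [hι, ← Scheme.IdealSheafData.comap_comp, hwb, Scheme.IdealSheafData.comap_comp, hsheaf]
    refine Scheme.IdealSheafData.ext_of_isAffine ?_
    rw [ideal_comap_specMap, map_fromA_eq, sheafOf_ideal]
  obtain ⟨je, hjeo, hje, hjecov⟩ := exists_piece ι w K hK
  refine ⟨a, ha, je, hjeo, hjecov e ⟨q, ?_⟩, ?_⟩
  · show (chart I a ha ≫ l ≫ pullback.snd u b) q = ι e
    rw [Scheme.Hom.comp_apply, Scheme.Hom.comp_apply, hq, hp', hp]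
  · rw [reassoc_of% hje, hwb]
    exact (Category.assoc _ _ u).symm.trans
      (congrArg (fun t => t ≫ u) (spec_comp (fromA I a ha) (Ideal.Quotient.mk K)))

/-- Flatness of a closed subscheme over the base, read on an affine chart. -/
theorem flat_ringHom_of_flat {X S : Scheme.{u}} (g : X ⟶ S) (J : X.IdealSheafData) [Flat (J.subschemeι ≫ g)]
    (W : S.affineOpens) (U : X.affineOpens) (e : U.1 ≤ g ⁻¹ᵁ W.1) :
    ((Ideal.Quotient.mk (J.ideal U)).comp (g.appLE W.1 U.1 e).hom).Flat := by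
  have hsheaf : J.subschemeι.ker.comap U.2.fromSpec = sheafOf (J.ideal U) := by
    refine Scheme.IdealSheafData.ext_of_isAffine ?_
    rw [sheafOf_ideal, ideal_comap_fromSpec, Scheme.IdealSheafData.ker_subschemeι]
    rfl
  obtain ⟨j, hj, hje, -⟩ := exists_piece J.subschemeι U.2.fromSpec (J.ideal U) hsheaf
  haveI : Flat (Spec.map (CommRingCat.ofHom ((Ideal.Quotient.mk (J.ideal U)).comp (g.appLE W.1 U.1 e).hom)) ≫
      W.2.fromSpec) := by
    have heq : Spec.map (CommRingCat.ofHom ((Ideal.Quotient.mk (J.ideal U)).comp (g.appLE W.1 U.1 e).hom)) ≫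
        W.2.fromSpec = j ≫ J.subschemeι ≫ g := by
      rw [← Category.assoc j, hje, Category.assoc, ← W.2.SpecMap_appLE_fromSpec g U.2 e, ← Category.assoc,
        ← Spec.map_comp]
      rfl
    rw [heq]
    infer_instance
  refine (HasRingHomProperty.Spec_iff (P := @Flat) (φ := CommRingCat.ofHom
    ((Ideal.Quotient.mk (J.ideal U)).comp (g.appLE W.1 U.1 e).hom))).1 ?_
  exact MorphismProperty.of_postcomp (W := @Flat) (W' := @IsOpenImmersion) _ W.2.fromSpec
    (inferInstance : IsOpenImmersion W.2.fromSpec) ‹_›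

theorem flat_exceptional {X X' S : Scheme.{u}} (g : X ⟶ S) (𝓘 : X.IdealSheafData)
    (hflat : ∀ n : ℕ, Flat ((𝓘 ^ (n + 1)).subschemeι ≫ g)) (b : X' ⟶ X) (hb : BlowUp.IsBlowUp b 𝓘)
    {E : Scheme.{u}} (ι : E ⟶ X') [IsClosedImmersion ι] (hι : ι.ker = 𝓘.comap b) :
    Flat (ι ≫ b ≫ g) := by
  suffices key : ∀ e : E, ∃ (W : Scheme.{u}) (j : W ⟶ E), IsOpenImmersion j ∧ e ∈ Set.range j ∧
      Flat (j ≫ ι ≫ b ≫ g) by
    choose W j hj hmem hsm using key
    let 𝒰 : E.OpenCover := E.openCoverOfIsOpenCover (fun e => (haveI := hj e; (j e).opensRange))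
      (eq_top_iff.2 fun e _ => Opens.mem_iSup.2 ⟨e, hmem e⟩)
    refine (IsZariskiLocalAtSource.iff_of_openCover (P := @Flat) 𝒰).2 fun (e : E) => ?_
    haveI := hj e
    show Flat ((j e).opensRange.ι ≫ ι ≫ b ≫ g)
    rw [← Scheme.Hom.isoOpensRange_inv_comp (j e), Category.assoc]
    haveI := hsm e
    infer_instance
  intro e
  obtain ⟨W, hW, hsW, -⟩ := exists_isAffineOpen_mem_and_subset (X := S) (U := ⊤)
    (trivial : g (b (ι e)) ∈ (⊤ : S.Opens))
  obtain ⟨U, hU, hxU, eU⟩ := exists_isAffineOpen_mem_and_subset (X := X) (U := g ⁻¹ᵁ W)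
    (show b (ι e) ∈ g ⁻¹ᵁ W from hsW)
  obtain ⟨a, ha, j, hj, hej, hje⟩ := exists_exceptional_chart 𝓘 b hb ι hι e ⟨U, hU⟩ hxU
  refine ⟨_, j, hj, hej, ?_⟩
  have hfl := flat_chart (g.appLE W U eU).hom (𝓘.ideal ⟨U, hU⟩) a ha fun n => by
    haveI := hflat n
    have := flat_ringHom_of_flat g (𝓘 ^ (n + 1)) ⟨W, hW⟩ ⟨U, hU⟩ eU
    rw [Scheme.IdealSheafData.ideal_pow] at this
    exact this
  have heq : j ≫ ι ≫ b ≫ g = Spec.map (CommRingCat.ofHom ((Ideal.Quotient.mk _).comp
      ((fromA (𝓘.ideal ⟨U, hU⟩) a ha).comp (g.appLE W U eU).hom))) ≫ hW.fromSpec := by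
    rw [show j ≫ ι ≫ b ≫ g = (j ≫ ι ≫ b) ≫ g by simp only [Category.assoc], hje, Category.assoc,
      ← hW.SpecMap_appLE_fromSpec g hU eU, ← Category.assoc]
    exact congrArg (· ≫ hW.fromSpec) (spec_comp (g.appLE W U eU).hom _)
  rw [heq]
  haveI := (HasRingHomProperty.Spec_iff (P := @Flat) (φ := CommRingCat.ofHom ((Ideal.Quotient.mk _).comp
      ((fromA (𝓘.ideal ⟨U, hU⟩) a ha).comp (g.appLE W U eU).hom)))).2 hfl
  infer_instance

end Groth.Agent.BlowExc
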